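import Cfsg.Agent.TID.SO.Red2
import Cfsg.Agent.H830.Transp
import Cfsg.Agent.H810.Thin

/-!
# The rows of the Fischer groups (helper3, project TID): general tools

* `mem_S` : elements of `C(X) ∩ F S` of order prime to `|X|` lie in `S`;
* `char_of_fstar`, `central_form`, `exists_conj_mem`, `kill_prod`, `no21`;
* `Hyp` : the hypotheses of the statements on groups of type `M(22)`, `M(23)`, `M(24)`; `hyp22`, `hyp23`, `hyp24`.
-/

set_option autoImplicit false
set_option linter.unusedSectionVars false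
set_option maxHeartbeats 400000

namespace Cfsg.Agent.TID.SO.D

open Cfsg Subgroup Cfsg.Agent.TID Cfsg.Agent.TID.SO
open scoped Pointwise

universe u v

section gen

variable {G : Type u} [Group G] [Finite G]

theorem exists_mul {F S : Subgroup G} (hc : ∀ x ∈ F, ∀ y ∈ S, x * y = y * x) {g : G} (hg : g ∈ F ⊔ S) :
    ∃ f ∈ F, ∃ s ∈ S, g = f * s := by
  have hn : S ≤ Nz F := le_Nz fun s hs x hx => by
    rw [← hc x hx s hs, mul_inv_cancel_right]
    exact hx
  have h1 : g ∈ ((F ⊔ S : Subgroup G) : Set G) := hg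
  rw [coe_mul_of_right_le_normalizer_left F S hn] at h1
  obtain ⟨f, hf, s, hs, h2⟩ := h1
  exact ⟨f, hf, s, hs, h2.symm⟩

/-- elements of `C(X) ∩ F S` of order prime to `|X|` lie in `S` -/
theorem mem_S {X F S : Subgroup G} (hXF : X ≤ F) (hF : F ⊓ Cz X ≤ X) (hc : ∀ x ∈ F, ∀ y ∈ S, x * y = y * x) {v : G}
    (hv : v ∈ F ⊔ S) (hvX : v ∈ Cz X) (hcop : (Nat.card X).Coprime (orderOf v)) : v ∈ S := by
  obtain ⟨f, hf, s, hs, h1⟩ := exists_mul hc hv
  have hsX : s ∈ Cz X := mem_Cz.2 fun x hx => hc x (hXF hx) s hs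
  have hfX : f ∈ X := by
    refine hF ⟨hf, ?_⟩
    rw [show f = v * s⁻¹ by rw [h1]; group]
    exact (Cz X).mul_mem hvX ((Cz X).inv_mem hsX)
  have h2 : f ^ Nat.card X = 1 := congrArg Subtype.val (pow_card_eq_one' (x := (⟨f, hfX⟩ : X)))
  have h3 : v ^ Nat.card X ∈ S := by
    rw [h1, Commute.mul_pow (hc f hf s hs), h2, one_mul]
    exact pow_mem hs _
  obtain ⟨m, hm⟩ := exists_pow_eq_self_of_coprime hcop
  rw [← hm]
  exact pow_mem h3 m

theorem Cz_zpowers (y : G) : Cz (zpowers y) = C1 y := by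
  rw [Cz, C1, zpowers_eq_closure, centralizer_closure]

variable {p : ℕ} [hp : Fact p.Prime]

/-- the form for subgroups of order `p ^ 2` -/
theorem le_S {V F S : Subgroup G} {y : G} {r : ℕ} (hr : r.Prime) (hrp : r ≠ p) (hy : orderOf y = r)
    (hV : IsElementaryAbelian p V) (hVy : V ≤ C1 y) (hXF : zpowers y ≤ F) (hF : F ⊓ Cz (zpowers y) = zpowers y)
    (hc : ∀ x ∈ F, ∀ y ∈ S, x * y = y * x) (hN : V ≤ F ⊔ S) : V ≤ S := by
  intro v hv
  by_cases h1 : v = 1
  · rw [h1]; exact one_mem _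
  refine mem_S hXF hF.le hc (hN hv) (by rw [Cz_zpowers]; exact hVy hv) ?_
  rw [Nat.card_zpowers, hy, el_order hV hv h1]
  exact (Nat.coprime_primes hr hp.out).2 hrp

theorem char_of_fstar {H : Type v} [Group H] [Finite H] (h : IsPGroup p (generalizedFittingSubgroup H)) :
    centralizer (pCore p H : Set H) ≤ pCore p H := by
  have h1 : generalizedFittingSubgroup H ≤ pCore p H := Lib.Cores.le_pCore Lib.GenFitting.genFitting_normal h
  exact (centralizer_le h1).trans (Lib.GenFitting.centralizer_genFitting_le.trans h1)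

omit [Finite G] hp in
theorem central_form {P : Sylow p G} {z : G} (hz : z ∈ (P : Subgroup G)) (h : (P : Subgroup G) ≤ C1 z) :
    ∃ P : Sylow p G, zpowers z ≤ (center ↥(P : Subgroup G)).map (P : Subgroup G).subtype := by
  refine ⟨P, zpowers_le.2 ⟨⟨z, hz⟩, mem_center_iff.2 fun g => Subtype.ext ?_, rfl⟩⟩
  exact (mem_C1.1 (h g.2)).symm

/-- an element of order `p` of `H` is conjugate to an element of a Sylow subgroup `V` -/
theorem exists_conj_mem {V H : Subgroup G} (hVH : V ≤ H) {n : ℕ} (hV : Nat.card V = p ^ n)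
    (hH : ¬ p ^ (n + 1) ∣ Nat.card H) {x : G} (hx : x ∈ H) (hxp : orderOf x = p) : ∃ g ∈ H, g * x * g⁻¹ ∈ V := by
  have h1 : IsPGroup p (V.subgroupOf H) := (IsPGroup.of_card hV).comap_subtype
  obtain ⟨P, hP⟩ := h1.exists_le_sylow
  have h2 : V.subgroupOf H = P := by
    refine eq_of_le_of_card_ge hP ?_
    rw [Nat.card_congr (subgroupOfEquivOfLe hVH).toEquiv, hV]
    obtain ⟨k, hk⟩ := IsPGroup.iff_card.1 P.isPGroup'
    rw [hk]
    refine Nat.pow_le_pow_right hp.out.pos ?_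
    by_contra h3
    exact hH ((pow_dvd_pow p (by omega)).trans (hk ▸ card_subgroup_dvd_card _))
  have h3 : IsPGroup p (zpowers (⟨x, hx⟩ : H)) :=
    IsPGroup.of_card (n := 1) (by rw [Nat.card_zpowers, orderOf_mk, hxp, pow_one])
  obtain ⟨Q, hQ⟩ := h3.exists_le_sylow
  obtain ⟨g, hg⟩ := MulAction.exists_smul_eq H Q P
  refine ⟨g, g.2, ?_⟩
  have h4 : (g * ⟨x, hx⟩ * g⁻¹ : H) ∈ (P : Subgroup H) := by
    rw [← hg, Sylow.coe_subgroup_smul]
    have h5 := smul_mem_pointwise_smul (⟨x, hx⟩ : H) (MulAut.conj g) (Q : Subgroup H) (hQ (mem_zpowers _))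
    rwa [MulAut.smul_def, MulAut.conj_apply] at h5
  rw [← h2] at h4
  exact h4

/-- `N(⟨v⟩) = S × K`, `K` simple -/
theorem kill_prod {D : Subgroup G} (hD : IsPGroup p D) (hT : TI D) (hr : Rk2 p D) {v : G} (hv : v ∈ D)
    (hvp : orderOf v = p) {S K : Subgroup G} (hvS : v ∈ S) (hS : ¬ p ^ 2 ∣ Nat.card S)
    (hc : ∀ x ∈ S, ∀ y ∈ K, x * y = y * x) (hN : S ⊔ K = Nz (zpowers v)) (hs : IsSimpleGroup K)
    (hK : ¬ IsMulCommutative K) : False := by
  obtain ⟨w, hw, hwp, hvw, hne⟩ := exists_snd hD hr hv hvp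
  have hND : S ⊔ K ≤ Nz D := by
    rw [hN]
    exact hT.norm_le (zpowers_le.2 hv) (by rw [Ne, zpowers_eq_bot]; exact ne_one_of_order hvp)
  have hwN : w ∈ S ⊔ K := by
    rw [hN]
    exact C1_le_Nz_zpowers v (mem_C1.2 hvw)
  obtain ⟨s, hs', k, hk, h1⟩ := exists_mul hc hwN
  -- `D ∩ K = 1`
  have hDK : ∀ x ∈ K, x ∈ D → x = 1 := fun x hx hxD =>
    congrArg Subtype.val (map_eq_one hD (le_sup_right.trans hND) hK (MonoidHom.id K) Function.surjective_id
      (x := ⟨x, hx⟩) hxD)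
  have hkc : (⟨k, hk⟩ : K) ∈ center K := by
    refine mem_center_iff.2 fun g => Subtype.ext ?_
    have h2 : (g : G) * w * (g : G)⁻¹ * w⁻¹ ∈ D := mul_mem (conj_mem (hND (mem_sup_right g.2)) hw) (inv_mem hw)
    have h3 : (g : G) * w * (g : G)⁻¹ * w⁻¹ = g * k * (g : G)⁻¹ * k⁻¹ := by
      have h4 := hc s hs' _ (mul_mem (mul_mem (mul_mem g.2 hk) (inv_mem g.2)) (inv_mem hk))
      calc (g : G) * w * (g : G)⁻¹ * w⁻¹ = (g * s) * k * (g : G)⁻¹ * k⁻¹ * s⁻¹ := by rw [h1]; group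
        _ = s * (g * k * (g : G)⁻¹ * k⁻¹) * s⁻¹ := by rw [← hc s hs' g g.2]; group
        _ = _ := by rw [h4]; group
    rw [h3] at h2
    have h5 := hDK _ (mul_mem (mul_mem (mul_mem g.2 hk) (inv_mem g.2)) (inv_mem hk)) h2
    change (g : G) * k = k * g
    calc (g : G) * k = (g * k * (g : G)⁻¹ * k⁻¹) * (k * g) := by group
      _ = k * g := by rw [h5, one_mul]
  have hk1 : k = 1 := by
    rcases (inferInstance : (center K).Normal).eq_bot_or_eq_top with h2 | h2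
    · rw [h2, mem_bot] at hkc
      exact congrArg Subtype.val hkc
    · exact absurd ⟨⟨fun a b => mem_center_iff.1 (h2 ▸ mem_top b) a⟩⟩ hK
  rw [hk1, mul_one] at h1
  obtain ⟨-, h2⟩ := exists_pair hvp hwp hvw hne
  refine hS (h2 ▸ card_dvd_of_le ((closure_le _).2 ?_))
  rintro x (rfl | rfl)
  · exact hvS
  · rw [h1]; exact hs'

/-- `S₇` has no element of order 21 -/
theorem no21 (σ : Equiv.Perm (Fin 7)) : orderOf σ ≠ 21 := by
  intro h
  have h1 : 7 ∣ σ.cycleType.prod := by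
    refine Dvd.dvd.trans ?_ (Multiset.lcm_dvd.2 fun b hb => Multiset.dvd_prod hb)
    rw [Equiv.Perm.lcm_cycleType, h]
    norm_num
  obtain ⟨n, hn, h7⟩ := (Nat.prime_iff.1 (by norm_num : Nat.Prime 7)).exists_mem_multiset_dvd h1
  obtain ⟨s, hs⟩ := Multiset.exists_cons_of_mem hn
  have h2 := σ.sum_cycleType_le
  rw [Fintype.card_fin, hs, Multiset.sum_cons] at h2
  have h3 := Equiv.Perm.two_le_of_mem_cycleType hn
  have h4 : n = 7 := by
    have := Nat.le_of_dvd (by omega) h7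
    omega
  have h5 : s = 0 := by
    by_contra h5
    obtain ⟨m, hm⟩ := Multiset.exists_mem_of_ne_zero h5
    have h6 := Equiv.Perm.two_le_of_mem_cycleType (hs ▸ Multiset.mem_cons_of_mem hm : m ∈ σ.cycleType)
    have h7 := Multiset.single_le_sum (fun x _ => Nat.zero_le x) m hm
    omega
  have h6 := σ.lcm_cycleType
  rw [hs, h4, h5, h] at h6
  simp at h6

end gen

/-! ### the hypotheses of the statements -/

/-- the common hypotheses -/
structure Hyp {G : Type u} [Group G] (T : Set G) (d : G) : Prop where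
  tt : IsThreeTranspositionGroup T
  prim : IsPrimitiveUnderConj T
  mem : d ∈ T
  h3 : pCore 3 ↥(closure {y : G | y ∈ T ∧ y ≠ d ∧ Commute d y}) ≤ center ↥(closure {y : G | y ∈ T ∧ y ≠ d ∧ Commute d y})
  h2 : pCore 2 ↥(closure {y : G | y ∈ T ∧ y ≠ d ∧ Commute d y}) ≤ center ↥(closure {y : G | y ∈ T ∧ y ≠ d ∧ Commute d y})

section hyp

open Cfsg.Agent.Fischer160.Inherit Cfsg.Agent.H831.Types

variable {G : Type u} [Group G] [Finite G] {T : Set G}

theorem hyp_of (F : Fischer480.Defs.FGroup T) (hprim : IsPrimitiveUnderConj T) (hc : 120 < Nat.card G)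
    (ht : ThinLines T) : ∃ d, Hyp T d := by
  obtain ⟨h1, ⟨d, hd, h2⟩, h3⟩ := F.cls
  have := Fact.mk Nat.prime_three
  refine ⟨d, ⟨h1, fun g x hx => ?_, h3⟩, hprim, hd, ?_, pCore_le_of_thinLines (rk_of_FGroup (inh_of_defs F)) ht hd⟩
  · rw [h2] at hx ⊢
    exact IsConj.trans hx (isConj_iff.2 ⟨g, rfl⟩)
  · refine le_trans ?_ (odd_central (inh_of_defs F) hc hd)
    refine Lib.Cores.le_pPrimeCore (Lib.Cores.pCore_normal 3) ?_
    obtain ⟨k, hk⟩ := IsPGroup.iff_card.1 (Lib.Cores.pCore_isPGroup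
      (G := ↥(closure {y : G | y ∈ T ∧ y ≠ d ∧ Commute d y})) 3)
    erw [hk]
    exact Nat.Coprime.pow_left _ (by norm_num)

theorem hyp22 (h : Spor.IsoFi22 G) : ∃ (T : Set G) (d : G), Hyp T d ∧ IsOfTypeM22 G T := by
  obtain ⟨e⟩ := h
  obtain ⟨F, -, h1, h2⟩ := H830.Transp.fi22 e.symm
  obtain ⟨d, hd, F4, i1, i2, hF, ⟨f⟩⟩ := m22_psu h2
  obtain ⟨d, h3⟩ := hyp_of F h1 (m22_card h2) (step (inh_of_defs F) hd (m22_card h2) (psu_facts hF f).2.2.2.1).1
  exact ⟨_, d, h3, h2⟩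

theorem hyp23 (h : Spor.IsoFi23 G) : ∃ (T : Set G) (d : G), Hyp T d ∧ IsOfTypeM23 G T := by
  obtain ⟨e⟩ := h
  obtain ⟨F, -, h1, h2⟩ := H830.Transp.fi23 e.symm
  obtain ⟨d, hd, h4⟩ := m23_sub h2
  have hE := isThree_Eb (inh_of_defs F) hd (not_solvable_KK (m22_not_solvable h4))
  obtain ⟨d, h3⟩ := hyp_of F h1 (m23_card h2)
    (step (inh_of_defs F) hd (m23_card h2) (m22_no_sol (SporadicStructure.FischerSpace.fdata_of_class hE) h4)).1
  exact ⟨_, d, h3, h2⟩

theorem hyp24 : ∃ d : Spor.Fi24, Hyp R08.FiTwentyFour.L d ∧ IsOfTypeM24 Spor.Fi24 R08.FiTwentyFour.L := by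
  have := R08.FiTwentyFour.finite_Fi24
  obtain ⟨F, -, h1, h2⟩ := H830.Transp.fi24 (MulEquiv.refl Spor.Fi24)
  have h0 : (MulEquiv.refl Spor.Fi24) '' R08.FiTwentyFour.L = R08.FiTwentyFour.L := Set.image_id _
  rw [h0] at F h1 h2
  obtain ⟨d, h3⟩ := hyp_of F h1 (m24_card h2) (H810.Thin.thinLines (inh_of_defs F) h2)
  exact ⟨d, h3, h2⟩

end hyp

end Cfsg.Agent.TID.SO.D
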