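import Cfsg.Agent.TID.SO.D.Gen
import Cfsg.Agent.OrdDiv.Core
import Cfsg.Agent.PreUniqCo.FiTwentyTwo
import Cfsg.Agent.LThreeFi23.CentUuComp
import Cfsg.Agent.S1697
import Cfsg.Agent.S5478
import Cfsg.Agent.S5487
import Cfsg.Agent.S5489
import Cfsg.Agent.S5493
import Cfsg.Agent.S5494
import Cfsg.Agent.S5495
import Cfsg.Agent.S5496
import Cfsg.Agent.S5497

/-!
# The rows `Fi22`, `Fi23`, `p = 3` (helper3, project TID)

* `noSit22`, `noSit23`;
* `noCom23` : no element of prime order `r ≥ 7` of `Fi23` commutes with a `3²`.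
-/

set_option autoImplicit false
set_option linter.unusedSectionVars false
set_option maxHeartbeats 400000

namespace Cfsg.Agent.TID.SO.D

open Cfsg Subgroup Cfsg.Agent.TID Cfsg.Agent.TID.SO

universe u v

variable {G : Type u} [Group G] [Finite G]

/-- parabolic characteristic `p` excludes the first case -/
theorem not_caseI {p : ℕ} [hp : Fact p.Prime] {D : Subgroup G} (h : Sit p D)
    (hc : ∀ Z : Subgroup G, Nat.card Z = p →
      (∃ P : Sylow p G, Z ≤ (center ↥(P : Subgroup G)).map (P : Subgroup G).subtype) →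
      IsPGroup p (generalizedFittingSubgroup (Nz Z))) : ¬ CaseI p D := by
  intro h1
  obtain ⟨P, z, h2, -, hz, hzp, h3⟩ := central_of_caseI h.loc h1
  refine h.not_char_norm (zpowers_le.2 hz) (by rw [Ne, zpowers_eq_bot]; exact ne_one_of_order hzp)
    (char_of_fstar (hc _ (by rw [Nat.card_zpowers, hzp]) (central_form (h2 hz) h3)))

theorem five_le {r : ℕ} (hr : r.Prime) (h2 : r ≠ 2) (h3 : r ≠ 3) : 5 ≤ r := by
  have h1 := hr.two_le
  by_contra h
  have h4 : r = 4 := by omega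
  rw [h4] at hr
  norm_num at hr

theorem card_perm_of {S : Type v} [Group S] {n : ℕ} (e : S ≃* Equiv.Perm (Fin n)) : Nat.card S = n.factorial := by
  rw [Nat.card_congr e.toEquiv, Nat.card_perm, Nat.card_fin]

/-! ### `Fi22` -/

theorem noCom22 (h : Spor.IsoFi22 G) {r : ℕ} (hr : r.Prime) (h5 : 5 ≤ r) : ¬ Com 3 r G := by
  have := Fact.mk Nat.prime_three
  obtain ⟨e⟩ := h
  have C := LThreeFi22.Inst.ctx e
  rintro ⟨E, y, hEa, hEc, hy, hEy⟩
  have hd : r ∣ Nat.card G := by rw [← hy]; exact orderOf_dvd_natCard y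
  rw [C.card] at hd
  have h9 : 9 ∣ Nat.card ↥(centralizer ({y} : Set G)) := by
    rw [show 9 = 3 ^ 2 from rfl, ← hEc]
    exact card_dvd_of_le hEy
  have hyr : y ^ r = 1 := by rw [← hy, pow_orderOf_eq_one]
  have hy1 : y ≠ 1 := by
    rintro rfl
    rw [orderOf_one] at hy
    omega
  obtain ⟨x, hx, hx1⟩ := E.bot_or_exists_ne_one.resolve_left (el_ne_bot hEc)
  have hx3 : x ^ 3 = 1 := hEa.2 x hx
  have hxy : x * y = y * x := mem_centralizer_singleton_iff.1 (hEy hx)
  rcases PreUniqCo.FiTwentyTwo.primes hr h5 hd with rfl | rfl | rfl | rfl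
  · exact C.nine_five hyr hy1 h9
  · exact C.nine_seven hyr hy1 h9
  · exact hx1 (C.eleven hyr hy1 hx3 hxy)
  · apply hx1
    have h13 := PreUniqCo.FiTwentyTwo.thirteen e hy hxy
    calc x = x ^ 13 * ((x ^ 3) ^ 4)⁻¹ := by group
      _ = 1 := by rw [h13, hx3, one_pow, inv_one, one_mul]

theorem noSit22 (h : Spor.IsoFi22 G) : NoSit 3 G := by
  have := Fact.mk Nat.prime_three
  intro D hD
  rcases hD.tri with ⟨L, hL⟩ | hT
  · obtain ⟨r, y, hr, hr2, hr3, hy, -, hDy⟩ := comp_exists_prime hL Nat.prime_two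
    exact noCom22 h hr (five_le hr hr2 hr3) (hy ▸ com_of hD.loc.rk hDy)
  · obtain ⟨T, d, H, h22⟩ := hyp22 h
    exact not_caseI hD (fun Z hZ hc =>
      IsPGroup.of_card (S5478.result H.tt H.prim d H.mem H.h3 H.h2 h22 Z hZ hc).2.1) hT.1

/-! ### `Fi23` -/

theorem card23 (h : Spor.IsoFi23 G) : Nat.card G = 4089470473293004800 := by
  obtain ⟨e⟩ := h
  rw [Nat.card_congr e.toEquiv, S1697.result.2]

theorem primes23 {r : ℕ} (hr : r.Prime) (h5 : 5 ≤ r) (hd : r ∣ 4089470473293004800) :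
    r = 5 ∨ r = 7 ∨ r = 11 ∨ r = 13 ∨ r = 17 ∨ r = 23 := by
  obtain ⟨k, hk, -⟩ := OrdDiv.exists_pair
    (l := [(2, 18), (3, 13), (5, 2), (7, 1), (11, 1), (13, 1), (17, 1), (23, 1)]) (N := 4089470473293004800)
    (by decide +kernel) hr le_rfl (by rwa [pow_one])
  simp only [List.mem_cons, Prod.mk.injEq, List.not_mem_nil, or_false] at hk
  omega

theorem noCom23 (h : Spor.IsoFi23 G) {r : ℕ} (hr : r.Prime) (h7 : 7 ≤ r) : ¬ Com 3 r G := by
  have := Fact.mk Nat.prime_three
  obtain ⟨T, d, H, h23⟩ := hyp23 h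
  rintro ⟨V, y, hV, hVc, hy, hVy⟩
  have hd : r ∣ Nat.card G := by rw [← hy]; exact orderOf_dvd_natCard y
  rw [card23 h] at hd
  have hX : Nat.card (zpowers y) = r := by rw [Nat.card_zpowers, hy]
  have hVN : V ≤ Nz (zpowers y) := hVy.trans (C1_le_Nz_zpowers y)
  have hself : Cz (zpowers y) = zpowers y → r = 17 ∨ r = 23 → False := fun h1 h2 => by
    have h3 := card_dvd_of_le (show V ≤ zpowers y by rw [← h1, Cz_zpowers]; exact hVy)
    rw [hVc, hX] at h3
    rcases h2 with rfl | rfl <;> norm_num at h3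
  rcases primes23 hr (by omega) hd with rfl | rfl | rfl | rfl | rfl | rfl
  · omega
  · obtain ⟨F, -, h1, h2, -, h3, h4, ⟨e⟩⟩ := (S5494.result H.tt H.prim d H.mem H.h3 H.h2 h23).2 _ hX
    have h5 := card_dvd_of_le (le_S hr (by norm_num) hy hV hVy h1 h2 h3 (h4 ▸ hVN))
    rw [hVc, card_perm_of e] at h5
    norm_num [Nat.factorial] at h5
  · obtain ⟨a, b, ha, hb, hab, h0, F, -, h1, h2, -, h3, h4, -⟩ :=
      (S5495.result H.tt H.prim d H.mem H.h3 H.h2 h23).2 _ hX
    have hm : ∀ c : G, c ∈ T → c ∈ Cz (zpowers y) → c = a ∨ c = b := fun c h5 h6 => by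
      have h7 : c ∈ T ∩ (Cz (zpowers y) : Set G) := ⟨h5, h6⟩
      rw [h0] at h7
      exact h7
    have haC : a ∈ Cz (zpowers y) := (show a ∈ T ∩ (Cz (zpowers y) : Set G) by rw [h0]; exact Or.inl rfl).2
    have hbC : b ∈ Cz (zpowers y) := (show b ∈ T ∩ (Cz (zpowers y) : Set G) by rw [h0]; exact Or.inr rfl).2
    have hcj : ∀ g ∈ Cz (zpowers y), ∀ c, c = a ∨ c = b → g * c * g⁻¹ = a ∨ g * c * g⁻¹ = b := by
      rintro g hg c (rfl | rfl)
      · exact hm _ (H.tt.2.1 g _ ha) (mul_mem (mul_mem hg haC) (inv_mem hg))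
      · exact hm _ (H.tt.2.1 g _ hb) (mul_mem (mul_mem hg hbC) (inv_mem hg))
    have hVa : V ≤ C1 a := by
      intro v hv
      have hvC : v ∈ Cz (zpowers y) := by rw [Cz_zpowers]; exact hVy hv
      rcases hcj v hvC a (Or.inl rfl) with h5 | h5
      · exact mem_C1.2 (mul_inv_eq_iff_eq_mul.1 h5).symm
      · rcases hcj v hvC b (Or.inr rfl) with h6 | h6
        · have h7 : v ^ 2 ∈ C1 a := by
            refine mem_C1.2 (mul_inv_eq_iff_eq_mul.1 ?_).symm
            rw [← h6]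
            nth_rewrite 1 [h6]
            rw [← h5, pow_two]
            group
          have h8 : (v ^ 2) ^ 2 = v := by rw [← pow_mul, show 2 * 2 = 3 + 1 from rfl, pow_succ, hV.2 v hv, one_mul]
          rw [← h8]
          exact pow_mem h7 2
        · exact absurd (mul_left_cancel (mul_right_cancel (h5.trans h6.symm))) hab
    have h5 := le_S hr (by norm_num) hy hV hVy h1 h2 h3 (h4 ▸ le_inf hVN hVa)
    have hcomm : a * b = b * a := by
      rcases hcj a haC b (Or.inr rfl) with h6 | h6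
      · exfalso
        apply hab
        calc a = a⁻¹ * (a * b * a⁻¹) * a := by rw [h6]; group
          _ = b := by group
      · exact mul_inv_eq_iff_eq_mul.1 h6
    have := Fact.mk Nat.prime_two
    obtain ⟨-, h6⟩ := exists_pair (H.tt.1.1 a ha) (H.tt.1.1 b hb) hcomm (by
      classical
      intro h7
      have h8 := (mem_zpowers_iff_mem_range_orderOf).1 h7
      rw [H.tt.1.1 a ha] at h8
      simp only [Finset.mem_image, Finset.mem_range] at h8
      obtain ⟨i, hi, h9⟩ := h8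
      interval_cases i
      · exact ne_one_of_order (H.tt.1.1 b hb) (by rw [← h9, pow_zero])
      · exact hab (by rw [← h9, pow_one]))
    have h7 := card_dvd_of_le h5
    rw [hVc, h6] at h7
    norm_num at h7
  · obtain ⟨F, -, h1, h2, -, h3, h4, ⟨e⟩⟩ := (S5496.result H.tt H.prim d H.mem H.h3 H.h2 h23).2 _ hX
    have h5 := card_dvd_of_le (le_S hr (by norm_num) hy hV hVy h1 h2 h3 (h4 ▸ hVN))
    rw [hVc, card_perm_of e] at h5
    norm_num [Nat.factorial] at h5
  · exact hself ((S5497.result H.tt H.prim d H.mem H.h3 H.h2 h23).1 _ hX).2 (Or.inl rfl)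
  · exact hself ((S5497.result H.tt H.prim d H.mem H.h3 H.h2 h23).2 _ hX).2 (Or.inr rfl)

theorem omega7 : IsSimpleGroup (POmega (ZMod 3) (quadFormOdd 3 (ZMod 3))) ∧
    ¬ IsMulCommutative (POmega (ZMod 3) (quadFormOdd 3 (ZMod 3))) := by
  have := LThreeFi23.simple_CC
  refine ⟨LThreeFi23.eO.symm.isSimpleGroup, fun h => LThreeFi23.nc_CC ⟨⟨fun a b => LThreeFi23.eO.injective ?_⟩⟩⟩
  rw [map_mul, map_mul]
  exact h.1.1 _ _

/-- two members of a generating set of a noncommutative group which do not commute -/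
theorem exists_ncomm {E : Set G} {n : ℕ} (hn : 3 ≤ n) (e : closure E ≃* Equiv.Perm (Fin n)) :
    ∃ a ∈ E, ∃ b ∈ E, ¬ Commute a b := by
  by_contra hcon
  push Not at hcon
  have h1 := isMulCommutative_closure (k := E) fun a ha b hb => (hcon a ha b hb).eq
  have h2 : ∀ x y : Equiv.Perm (Fin n), x * y = y * x := fun x y => by
    apply e.symm.injective
    rw [map_mul, map_mul]
    exact h1.1.1 _ _
  let i : Fin n := ⟨0, by omega⟩
  let j : Fin n := ⟨1, by omega⟩
  let k : Fin n := ⟨2, by omega⟩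
  have h3 := congrArg (fun x : Equiv.Perm (Fin n) => x i) (h2 (Equiv.swap i j) (Equiv.swap i k))
  have hij : i ≠ j := by simp [i, j]
  have hik : i ≠ k := by simp [i, k]
  have hjk : j ≠ k := by simp [j, k]
  simp only [Equiv.Perm.mul_apply, Equiv.swap_apply_left] at h3
  rw [Equiv.swap_apply_of_ne_of_ne hik.symm hjk.symm, Equiv.swap_apply_of_ne_of_ne hij.symm hjk] at h3
  exact hjk h3.symm

theorem order_three {T : Set G} (h : IsThreeTranspositionSet T) {a b : G} (ha : a ∈ T) (hb : b ∈ T)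
    (hab : ¬ Commute a b) : orderOf (a * b) = 3 := by
  have := Fact.mk Nat.prime_three
  have ha2 : a * a = 1 := by rw [← pow_two, ← h.1 a ha, pow_orderOf_eq_one]
  have hb2 : b * b = 1 := by rw [← pow_two, ← h.1 b hb, pow_orderOf_eq_one]
  have key : (a * b) ^ 2 = 1 → False := fun h1 => hab (by
    have h2 : (a * b)⁻¹ = a * b := inv_eq_of_mul_eq_one_left (by rw [← pow_two, h1])
    rw [mul_inv_rev, inv_eq_of_mul_eq_one_left ha2, inv_eq_of_mul_eq_one_left hb2] at h2
    exact h2.symm)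
  refine orderOf_eq_prime ((h.2 a ha b hb).resolve_left key) fun h1 => key ?_
  rw [h1, one_pow]

theorem noSit23 (h : Spor.IsoFi23 G) : NoSit 3 G := by
  have := Fact.mk Nat.prime_three
  obtain ⟨T, d, H, h23⟩ := hyp23 h
  intro D hD
  rcases hD.tri with ⟨L, hL⟩ | hT
  · obtain ⟨r, y, hr, hr2, hr3, hy, -, hDy⟩ := comp_exists_prime hL Nat.prime_two
    by_cases h7 : 7 ≤ r
    · exact noCom23 h hr h7 (hy ▸ com_of hD.loc.rk hDy)
    have h5 : r = 5 := by
      have h1 := five_le hr hr2 hr3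
      by_contra h2
      have h3 : r = 6 := by omega
      rw [h3] at hr
      norm_num at hr
    subst h5
    obtain ⟨V, hVD, hV, hVc⟩ := hD.loc.rk
    obtain ⟨F, -, h1, h2, -, h3, h4, ⟨e⟩⟩ := (S5493.result H.tt H.prim d H.mem H.h3 H.h2 h23).2 (zpowers y)
      (by rw [Nat.card_zpowers, hy])
    have h5 := le_S hr (by norm_num) hy hV (hVD.trans hDy) h1 h2 h3
      (h4 ▸ (hVD.trans hDy).trans (C1_le_Nz_zpowers y))
    obtain ⟨a, ha, b, hb, hab⟩ := exists_ncomm (by norm_num) e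
    obtain ⟨g, -, hg⟩ := exists_conj_mem h5 hVc (by rw [card_perm_of e]; norm_num [Nat.factorial])
      (mul_mem (subset_closure ha) (subset_closure hb)) (order_three H.tt.1 ha.1 hb.1 hab)
    have ha' := H.tt.2.1 g a ha.1
    have hb' := H.tt.2.1 g b hb.1
    have hab' : ¬ Commute (g * a * g⁻¹) (g * b * g⁻¹) := fun h6 => hab (by
      have h7 := h6.map (MulAut.conj g⁻¹).toMonoidHom
      simpa [mul_assoc] using h7)
    rw [show g * (a * b) * g⁻¹ = g * a * g⁻¹ * (g * b * g⁻¹) by group] at hg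
    obtain ⟨-, k2, k3, ⟨k4⟩, -, ⟨k6⟩, -⟩ :=
      S5487.result H.tt H.prim d H.mem H.h3 H.h2 h23 _ _ ha' hb' hab' _ _ _ rfl rfl rfl
    have := omega7.1
    refine kill_prod hD.loc.pgrp hD.loc.ti hD.loc.rk (hVD hg) (order_three H.tt.1 ha' hb' hab')
      (mul_mem (subset_closure (Or.inl rfl)) (subset_closure (Or.inr rfl)))
      (by rw [card_perm_of k4]; norm_num [Nat.factorial]) k2 k3 k6.isSimpleGroup fun h6 => omega7.2 ⟨⟨fun x z => ?_⟩⟩
    apply k6.symm.injective
    rw [map_mul, map_mul]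
    exact h6.1.1 _ _
  · exact not_caseI hD (fun Z hZ hc =>
      IsPGroup.of_card (S5489.result H.tt H.prim d H.mem H.h3 H.h2 h23 Z hZ hc).2.1) hT.1

end Cfsg.Agent.TID.SO.D
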